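import Cfsg.Agent.S4209
import Cfsg.Agent.S4225
import Cfsg.Agent.PClosedMin.Basic
import Cfsg.Agent.MaxClass.OddP
import Cfsg.Agent.Fusion.UniqueInvolution

/-!
Minimal groups in which the elements of order dividing `p` do not form a subgroup.
-/

set_option autoImplicit false

namespace Cfsg.Agent.ExpClosed

open Subgroup

variable {G : Type*} [Group G] [Finite G] {p : ℕ} [hp : Fact p.Prime]

/-- The elements of order dividing `p` form a subgroup. -/
def Closed (p : ℕ) (X : Type*) [Group X] : Prop :=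
  ∃ H : Subgroup X, (H : Set X) = {g : X | g ^ p = 1}

omit [Finite G] in
theorem mem_iff {H : Subgroup G} (h : (H : Set G) = {g : G | g ^ p = 1}) {g : G} :
    g ∈ H ↔ g ^ p = 1 := Set.ext_iff.1 h g

omit [Finite G] hp in
theorem closed_of_le {K : Subgroup G} (hK : Closed p ↥K) (hle : ∀ g : G, g ^ p = 1 → g ∈ K) :
    Closed p G := by
  obtain ⟨H, hH⟩ := hK
  refine ⟨H.map K.subtype, Set.ext fun g => ⟨?_, fun hg => ?_⟩⟩
  · rintro ⟨a, ha, rfl⟩
    show (a : G) ^ p = 1
    rw [← SubmonoidClass.coe_pow, (Set.ext_iff.1 hH a).1 ha, OneMemClass.coe_one]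
  · exact ⟨⟨g, hle g hg⟩, (Set.ext_iff.1 hH _).2 (Subtype.ext (by simpa using hg)), rfl⟩

omit [Finite G] hp in
theorem closure_eq_top (hnc : ¬ Closed p G) (hsub : ∀ K : Subgroup G, K ≠ ⊤ → Closed p ↥K)
    (S : Set G) (hS : ∀ g : G, g ^ p = 1 → g ∈ S) : closure S = ⊤ :=
  by_contra fun h => hnc (closed_of_le (hsub _ h) fun g hg => subset_closure (hS g hg))

omit [Finite G] hp in
/-- All `p`-th powers lie in every nontrivial normal subgroup. -/
theorem pow_mem (hnc : ¬ Closed p G) (hsub : ∀ K : Subgroup G, K ≠ ⊤ → Closed p ↥K)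
    (hquo : ∀ (N : Subgroup G) [N.Normal], N ≠ ⊥ → Closed p (G ⧸ N))
    (N : Subgroup G) [N.Normal] (hN : N ≠ ⊥) (g : G) : g ^ p ∈ N := by
  obtain ⟨H, hH⟩ := hquo N hN
  have hle : closure {g : G | g ^ p = 1} ≤ H.comap (QuotientGroup.mk' N) := by
    rw [closure_le]
    intro a ha
    refine mem_comap.2 ((Set.ext_iff.1 hH _).2 ?_)
    show (QuotientGroup.mk' N a) ^ p = 1
    rw [← map_pow, show a ^ p = 1 from ha, map_one]
  have htop : closure {g : G | g ^ p = 1} = ⊤ := closure_eq_top hnc hsub _ fun g hg => hg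
  rw [htop] at hle
  have h1 : (QuotientGroup.mk' N g) ^ p = 1 := (Set.ext_iff.1 hH _).1 (mem_comap.1 (hle (mem_top g)))
  rw [← map_pow] at h1
  exact (QuotientGroup.eq_one_iff _).1 h1

/-- A closed group with Sylow subgroups of order at most `p` is `p`-closed. -/
theorem isPClosed_of_sq_not_dvd {X : Type*} [Group X] [Finite X] (hX : Closed p X)
    (h2 : ¬ p ^ 2 ∣ Nat.card X) : Cfsg.IsPClosed p X := by
  obtain ⟨H, hH⟩ := hX
  intro P
  have hHP : (P : Subgroup X) ≤ H := fun x hx => by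
    refine (mem_iff hH).2 ?_
    obtain ⟨j, hj⟩ := IsPGroup.iff_orderOf.1 P.2 ⟨x, hx⟩
    rw [orderOf_mk] at hj
    have hj1 : j ≤ 1 := by
      by_contra hj1
      exact h2 ((pow_dvd_pow p (by omega)).trans (hj ▸ orderOf_dvd_natCard x))
    exact orderOf_dvd_iff_pow_eq_one.1 (hj ▸ (pow_dvd_pow p hj1).trans (by rw [pow_one]))
  have hHp : IsPGroup p H := fun x => ⟨1, Subtype.ext (by
    rw [pow_one, SubmonoidClass.coe_pow, OneMemClass.coe_one]; exact (mem_iff hH).1 x.2)⟩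
  rw [← P.is_maximal' hHp hHP]
  refine ⟨fun n hn g => (mem_iff hH).2 ?_⟩
  rw [conj_pow, (mem_iff hH).1 hn, mul_one, mul_inv_cancel]

theorem closed_of_isPClosed (hsub : ∀ K : Subgroup G, K ≠ ⊤ → Closed p ↥K) (hnp : ¬ IsPGroup p G)
    (hc : Cfsg.IsPClosed p G) : Closed p G := by
  obtain ⟨P⟩ : Nonempty (Sylow p G) := inferInstance
  have := hc P
  refine closed_of_le (hsub P fun h => hnp ?_) fun g hg => ?_
  · have h2 := P.2
    rw [h] at h2
    exact h2.of_equiv topEquiv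
  · have hz : IsPGroup p (zpowers g) := fun x => ⟨1, Subtype.ext (by
      obtain ⟨i, hi⟩ := mem_zpowers_iff.1 x.2
      rw [pow_one, SubmonoidClass.coe_pow, OneMemClass.coe_one, ← hi, ← zpow_natCast, ← zpow_mul, mul_comm,
        zpow_mul, zpow_natCast, hg, one_zpow])⟩
    obtain ⟨Q, hQ⟩ := hz.exists_le_sylow
    have hQP : Q = P := @Subsingleton.elim _
      (@Unique.instSubsingleton _ (Sylow.unique_of_normal P (hc P))) Q P
    exact hQP ▸ hQ (mem_zpowers g)

theorem sq_not_dvd (hnc : ¬ Closed p G) (hsub : ∀ K : Subgroup G, K ≠ ⊤ → Closed p ↥K)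
    (hquo : ∀ (N : Subgroup G) [N.Normal], N ≠ ⊥ → Closed p (G ⧸ N))
    (hns : ¬ IsSimpleGroup G) (hnp : ¬ IsPGroup p G) : ¬ p ^ 2 ∣ Nat.card G := by
  classical
  have hpp := hp.out
  have : Nontrivial G := by
    by_contra h
    rw [not_nontrivial_iff_subsingleton] at h
    exact hnp (IsPGroup.of_card (n := 0) (by rw [pow_zero]; exact Nat.card_of_subsingleton (1 : G)))
  obtain ⟨N, hN, hNb, hNt⟩ : ∃ N : Subgroup G, N.Normal ∧ N ≠ ⊥ ∧ N ≠ ⊤ := by
    by_contra hall
    push Not at hall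
    exact hns { eq_bot_or_eq_top_of_normal := fun N hN => or_iff_not_imp_left.mpr (hall N hN) }
  have hpow := fun g => pow_mem hnc hsub hquo N hNb g
  have hquot : IsPGroup p (G ⧸ N) := fun x => by
    obtain ⟨g, rfl⟩ := QuotientGroup.mk'_surjective N x
    exact ⟨1, by rw [pow_one, ← map_pow]; exact (QuotientGroup.eq_one_iff _).2 (hpow g)⟩
  have hNp : ∀ g ∈ N, g ^ p = 1 → g = 1 := by
    intro g hg hgp
    obtain ⟨O, hO⟩ := hsub N hNt
    by_contra hg1
    have hOn : (O.map N.subtype).Normal := ⟨fun n hn c => by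
      obtain ⟨a, ha, rfl⟩ := hn
      refine ⟨⟨c * a * c⁻¹, hN.conj_mem _ a.2 c⟩, (mem_iff hO).2 (Subtype.ext ?_), rfl⟩
      have h2 : (a : G) ^ p = 1 := by rw [← SubmonoidClass.coe_pow, (mem_iff hO).1 ha, OneMemClass.coe_one]
      simp [conj_pow, h2]⟩
    have hOb : O.map N.subtype ≠ ⊥ := fun h => hg1 (mem_bot.1 (h ▸
      ⟨⟨g, hg⟩, (mem_iff hO).2 (Subtype.ext hgp), rfl⟩))
    refine hnp fun x => ⟨2, ?_⟩
    obtain ⟨a, ha, hax⟩ := pow_mem hnc hsub hquo (O.map N.subtype) hOb x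
    rw [sq, pow_mul, ← hax]
    show (a : G) ^ p = 1
    rw [← SubmonoidClass.coe_pow, (mem_iff hO).1 ha, OneMemClass.coe_one]
  obtain ⟨P⟩ : Nonempty (Sylow p G) := inferInstance
  have hcop : ∀ U : Subgroup G, IsPGroup p U → N ⊓ U = ⊥ := fun U hU => by
    rw [eq_bot_iff]
    intro x hx
    rw [mem_bot]
    obtain ⟨j, hj⟩ := IsPGroup.iff_orderOf.1 hU ⟨x, hx.2⟩
    rw [orderOf_mk] at hj
    rcases Nat.eq_zero_or_pos j with rfl | hj0
    · rwa [pow_zero, orderOf_eq_one_iff] at hj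
    · have h1 := hNp (x ^ p ^ (j - 1)) (pow_mem_of hx.1 _) (by
        rw [← pow_mul, ← pow_succ, show j - 1 + 1 = j by omega, ← hj, pow_orderOf_eq_one])
      have h2 := orderOf_dvd_of_pow_eq_one h1
      rw [hj, Nat.pow_dvd_pow_iff_le_right hpp.one_lt] at h2
      omega
  have hPexp : ∀ x ∈ (P : Subgroup G), x ^ p = 1 := fun x hx =>
    mem_bot.1 (hcop _ P.2 ▸ ⟨hpow x, pow_mem_of hx p⟩)
  obtain ⟨x, hx, hxtop⟩ : ∃ x ∈ (P : Subgroup G), N ⊔ zpowers x = ⊤ := by
    by_contra hall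
    push Not at hall
    have hcomm : ∀ x ∈ (P : Subgroup G), ∀ n ∈ N, n * x = x * n := by
      intro x hx n hn
      set L := N ⊔ zpowers x with hLdef
      obtain ⟨O, hO⟩ := hsub L (hall x hx)
      have hxL : x ∈ L := mem_sup_right (mem_zpowers x)
      have hnL : n ∈ L := mem_sup_left hn
      have hxO : (⟨x, hxL⟩ : L) ∈ O := (mem_iff hO).2 (Subtype.ext (hPexp x hx))
      have hconj : (⟨n, hnL⟩ * ⟨x, hxL⟩ * ⟨n, hnL⟩⁻¹ : L) ∈ O :=
        (mem_iff hO).2 (by rw [conj_pow, (mem_iff hO).1 hxO, mul_one, mul_inv_cancel])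
      have h1 : n * x * n⁻¹ * x⁻¹ ∈ N ⊓ O.map L.subtype :=
        ⟨by simpa [mul_assoc] using mul_mem hn (hN.conj_mem _ (inv_mem hn) x),
          ⟨_, mul_mem hconj (inv_mem hxO), rfl⟩⟩
      have hOp : IsPGroup p (O.map L.subtype) := IsPGroup.map (fun y => ⟨1, Subtype.ext (by
        rw [pow_one, SubmonoidClass.coe_pow, OneMemClass.coe_one]; exact (mem_iff hO).1 y.2)⟩) _
      rw [hcop _ hOp, mem_bot, mul_inv_eq_one, mul_inv_eq_iff_eq_mul] at h1
      exact h1
    refine hnc (closed_of_isPClosed hsub hnp fun Q => ?_)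
    have hPN : N ⊔ (P : Subgroup G) = ⊤ := by
      rw [← index_eq_one]
      obtain ⟨j, hj⟩ := IsPGroup.iff_card.1 hquot
      rw [← index_eq_card] at hj
      obtain ⟨i, -, hi⟩ := (Nat.dvd_prime_pow hpp).1
        (hj ▸ index_dvd_of_le (le_sup_left : N ≤ N ⊔ (P : Subgroup G)))
      rcases i with _ | i
      · simpa using hi
      · exact absurd ((dvd_pow_self p (Nat.succ_ne_zero i)).trans
          (hi ▸ index_dvd_of_le (le_sup_right : _ ≤ N ⊔ (P : Subgroup G)))) P.not_dvd_index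
    have hPn : (P : Subgroup G).Normal := by
      rw [← normalizer_eq_top_iff, eq_top_iff, ← hPN]
      exact sup_le (fun n hn => centralizer_le_normalizer _ (mem_centralizer_iff.2
        fun u hu => (hcomm u hu n hn).symm)) le_normalizer
    have hQP : Q = P := @Subsingleton.elim _
      (@Unique.instSubsingleton _ (Sylow.unique_of_normal P hPn)) Q P
    exact hQP.symm ▸ hPn
  intro hdvd
  have hzp : IsPGroup p (zpowers x) := P.2.to_le (zpowers_le.2 hx)
  have hcard : Nat.card G = Nat.card N * Nat.card (zpowers x) := by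
    rw [← card_top (G := G), ← hxtop, Coprime.card_sup_eq_mul le_normalizer_of_normal (hcop _ hzp)]
  have hz : Nat.card (zpowers x) ∣ p := by
    rw [Nat.card_zpowers]; exact orderOf_dvd_of_pow_eq_one (hPexp x hx)
  have hpN : ¬ p ∣ Nat.card N := fun hd => by
    obtain ⟨a, ha⟩ := exists_prime_orderOf_dvd_card' p hd
    have h1 := hNp a a.2 (by rw [← SubmonoidClass.coe_pow, ← ha, pow_orderOf_eq_one, OneMemClass.coe_one])
    rw [show a = 1 from Subtype.ext h1, orderOf_one] at ha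
    exact hpp.one_lt.ne ha
  have h3 : p ^ 2 ∣ Nat.card N * p := hdvd.trans (hcard ▸ Nat.mul_dvd_mul_left _ hz)
  rw [sq] at h3
  exact hpN (Nat.dvd_of_mul_dvd_mul_right hpp.pos h3)
where
  pow_mem_of {X : Type _} [Group X] {H : Subgroup X} {x : X} (h : x ∈ H) (k : ℕ) : x ^ k ∈ H :=
    Subgroup.pow_mem H h k

/-- The non-simple minimal groups that are not `p`-groups. -/
theorem not_pGroup_structure (hnc : ¬ Closed p G) (hsub : ∀ K : Subgroup G, K ≠ ⊤ → Closed p ↥K)
    (hquo : ∀ (N : Subgroup G) [N.Normal], N ≠ ⊥ → Closed p (G ⧸ N))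
    (hns : ¬ IsSimpleGroup G) (hnp : ¬ IsPGroup p G) :
    ∃ q : ℕ, q.Prime ∧ q ≠ p ∧ Nat.card G = p * q ^ orderOf (q : ZMod p) ∧
      ∃ A : Subgroup G, A.Normal ∧ Nat.card A = q ^ orderOf (q : ZMod p) ∧ Cfsg.IsElementaryAbelian q A ∧
        ∀ B : Subgroup G, B.Normal → B ≤ A → B = ⊥ ∨ B = A := by
  have h2 := sq_not_dvd hnc hsub hquo hns hnp
  refine PClosedMin.structure_of_not_simple (fun h => hnc (closed_of_isPClosed hsub hnp h))
    (fun H hH => isPClosed_of_sq_not_dvd (hsub H hH) fun h => h2 (h.trans (card_subgroup_dvd_card H)))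
    (fun N _ hN => isPClosed_of_sq_not_dvd (hquo N hN) fun h => h2 (h.trans ?_)) hns
  rw [← index_eq_card]
  exact index_dvd_card N

theorem pow_card_le (hG : IsPGroup p G) (h : (⊤ : Subgroup G).lowerCentralSeries (p - 1) ≠ ⊥) :
    p ^ (p + 1) ≤ Nat.card G := by
  have hp2 := hp.out.two_le
  have hne : ∀ i ≤ p - 1, (⊤ : Subgroup G).lowerCentralSeries i ≠ ⊥ := fun i hi hb =>
    h (le_bot_iff.1 ((Subgroup.lowerCentralSeries_antitone _ hi).trans hb.le))
  have hlow : ∀ d, d ≤ p - 2 →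
      p ^ (d + 1) ≤ Nat.card ↥((⊤ : Subgroup G).lowerCentralSeries (p - 1 - d)) := by
    intro d
    induction d with
    | zero =>
      intro _
      obtain ⟨j, hj⟩ := IsPGroup.iff_card.1 (hG.to_subgroup ((⊤ : Subgroup G).lowerCentralSeries (p - 1)))
      rw [Nat.sub_zero, hj]
      refine Nat.pow_le_pow_right hp.out.pos (Nat.succ_le_of_lt (Nat.pos_of_ne_zero fun h0 => ?_))
      rw [h0, pow_zero] at hj
      exact h (card_eq_one.1 hj)
    | succ d ih =>
      intro hd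
      have h1 := MaxClass.lcs_step hG (p - 1 - (d + 1)) (hne _ (by omega))
      rw [show p - 1 - (d + 1) + 1 = p - 1 - d by omega] at h1
      rw [pow_succ']
      exact le_trans (Nat.mul_le_mul_left p (ih (by omega))) h1
  have h1 := hlow (p - 2) le_rfl
  rw [show p - 1 - (p - 2) = 1 by omega, show p - 2 + 1 = p - 1 by omega] at h1
  have h2 := Nat.le_of_dvd (Nat.pos_of_ne_zero index_ne_zero_of_finite)
    (MaxClass.sq_dvd_index_commutator hG (hne 1 (by omega)))
  rw [← (_root_.commutator G).card_mul_index, show p + 1 = p - 1 + 2 by omega, pow_add]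
  exact Nat.mul_le_mul h1 h2

theorem pGroup_structure (hG : IsPGroup p G) (hnc : ¬ Closed p G)
    (hsub : ∀ K : Subgroup G, K ≠ ⊤ → Closed p ↥K)
    (hquo : ∀ (N : Subgroup G) [N.Normal], N ≠ ⊥ → Closed p (G ⧸ N)) :
    (∃ x y : G, closure ({x, y} : Set G) = ⊤) ∧ (⊤ : Subgroup G).lowerCentralSeries (p - 1) ≠ ⊥ ∧
      Monoid.exponent G = p ^ 2 ∧ IsCyclic (center G) ∧ p ^ (p + 1) ≤ Nat.card G := by
  have hpp := hp.out
  obtain ⟨x, y, hx, hy, hxy⟩ : ∃ x y : G, x ^ p = 1 ∧ y ^ p = 1 ∧ (x * y) ^ p ≠ 1 := by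
    by_contra hall
    push Not at hall
    exact hnc ⟨{ carrier := {g | g ^ p = 1}
                 mul_mem' := fun ha hb => hall _ _ ha hb
                 one_mem' := one_pow p
                 inv_mem' := fun {a} ha => by simpa [inv_pow] using ha }, rfl⟩
  have hgen : closure ({x, y} : Set G) = ⊤ := by
    by_contra h
    obtain ⟨H, hH⟩ := hsub _ h
    have h1 := (mem_iff hH).1 (mul_mem
      ((mem_iff hH).2 (show (⟨x, subset_closure (by simp)⟩ : closure ({x, y} : Set G)) ^ p = 1 from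
        Subtype.ext hx))
      ((mem_iff hH).2 (show (⟨y, subset_closure (by simp)⟩ : closure ({x, y} : Set G)) ^ p = 1 from
        Subtype.ext hy)))
    exact hxy (congrArg Subtype.val h1)
  have hcl : (⊤ : Subgroup G).lowerCentralSeries (p - 1) ≠ ⊥ := fun h => by
    obtain ⟨H, -, hH⟩ := S4225.result (S4209.result hG h) 1
    rw [pow_one] at hH
    exact hnc ⟨H, hH⟩
  have : Nontrivial G := ⟨⟨x * y, 1, fun h => hxy (by rw [h, one_pow])⟩⟩
  have := hG.center_nontrivial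
  obtain ⟨z, hz⟩ := exists_prime_orderOf_dvd_card' p
    ((IsPGroup.iff_card.1 (hG.to_subgroup (center G))).elim fun j hj => by
      rw [hj]; refine dvd_pow_self p fun h0 => ?_
      rw [h0, pow_zero] at hj
      exact Finite.one_lt_card.ne' hj : p ∣ Nat.card (center G))
  have hzn : ∀ w : center G, w ^ p = 1 → w ≠ 1 → ∀ g : G, g ^ p ∈ zpowers (w : G) := by
    intro w _ hw g
    have : (zpowers (w : G)).Normal := ⟨fun n hn c => by
      have hc : n ∈ center G := zpowers_le.2 w.2 hn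
      rwa [mem_center_iff.1 hc c, mul_inv_cancel_right]⟩
    exact pow_mem hnc hsub hquo _ (by simpa [zpowers_eq_bot] using hw) g
  have hz1 : z ^ p = 1 := hz ▸ pow_orderOf_eq_one z
  have hz2 : z ≠ 1 := fun h => by rw [h, orderOf_one] at hz; exact hpp.one_lt.ne hz
  have hexp : ∀ g : G, g ^ p ^ 2 = 1 := fun g => by
    obtain ⟨i, hi⟩ := mem_zpowers_iff.1 (hzn z hz1 hz2 g)
    rw [sq, pow_mul, ← hi, ← zpow_natCast, ← zpow_mul, mul_comm, zpow_mul, zpow_natCast,
      ← SubmonoidClass.coe_pow, hz1, OneMemClass.coe_one, one_zpow]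
  refine ⟨⟨x, y, hgen⟩, hcl, ?_, ?_, pow_card_le hG hcl⟩
  · obtain ⟨j, hj, he⟩ := (Nat.dvd_prime_pow hpp).1 (Monoid.exponent_dvd_of_forall_pow_eq_one hexp)
    rw [he]
    congr 1
    by_contra hj2
    refine hxy ?_
    have h1 : Monoid.exponent G ∣ p := he ▸ (pow_dvd_pow p (show j ≤ 1 by omega)).trans (by rw [pow_one])
    obtain ⟨t, ht⟩ := h1
    rw [ht, pow_mul, Monoid.pow_exponent_eq_one, one_pow]
  · refine Fusion.isCyclic_of_unique (hG.to_subgroup _) inferInstance fun u hu v hv hvo hup => ?_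
    by_contra hne
    have hu1 : u ≠ 1 := fun h => hne (h ▸ one_mem _)
    have hv1 : v ≠ 1 := fun h => by rw [h, orderOf_one] at hvo; exact hpp.one_lt.ne hvo
    have hvp : v ^ p = 1 := hvo ▸ pow_orderOf_eq_one v
    have h1 := hzn ⟨v, hv⟩ (Subtype.ext hvp) (fun h => hv1 (congrArg Subtype.val h)) (x * y)
    have h2 := hzn ⟨u, hu⟩ (Subtype.ext hup) (fun h => hu1 (congrArg Subtype.val h)) (x * y)
    have huo : orderOf u = p := orderOf_eq_prime hup hu1
    have hle : zpowers u ≤ zpowers ((x * y) ^ p) := by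
      refine (eq_of_le_of_card_ge (zpowers_le.2 h2) ?_).ge
      obtain ⟨k, hk⟩ := mem_zpowers_iff.1 h2
      have hq : ((x * y) ^ p) ^ p = 1 := by rw [← pow_mul, ← sq, hexp]
      rw [Nat.card_zpowers, Nat.card_zpowers, huo, orderOf_eq_prime hq hxy]
    exact hne (zpowers_le.2 h1 (hle (mem_zpowers u)))

end Cfsg.Agent.ExpClosed
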